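import Mathlib.CategoryTheory.Sites.ConstantSheaf
import Mathlib.CategoryTheory.Sites.LocallyBijective
import Mathlib.Algebra.Category.ModuleCat.Abelian
import Mathlib.Algebra.Category.ModuleCat.FilteredColimits
import Mathlib.RingTheory.Flat.EquationalCriterion
import Mathlib.Algebra.Module.FinitePresentation
import Mathlib.LinearAlgebra.TensorProduct.Vanishing
import Mathlib.CategoryTheory.Sites.Equivalence

/-!
# Sections of constant sheaves of modules

A section of a constant sheaf is locally constant; this allows one to apply an arbitrary function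
of sets to finitely many sections.
-/

set_option autoImplicit false
universe u

open CategoryTheory Opposite TensorProduct

namespace Groth.Agent.ConstSecLib

noncomputable section

variable {C : Type u} [SmallCategory C] (J : GrothendieckTopology C) {Λ : Type u} [CommRing Λ]

/-- Sections of the constant sheaf on `A`. -/
abbrev Sec (A : Type u) [AddCommGroup A] [Module Λ A] (W : C) : ModuleCat.{u} Λ :=
  ((constantSheaf J (ModuleCat.{u} Λ)).obj (ModuleCat.of Λ A)).obj.obj (op W)

variable {A B : Type u} [AddCommGroup A] [Module Λ A] [AddCommGroup B] [Module Λ B]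

/-- Restriction of sections. -/
def res {W U : C} (g : W ⟶ U) : Sec (Λ := Λ) J A U →ₗ[Λ] Sec (Λ := Λ) J A W :=
  (((constantSheaf J (ModuleCat.{u} Λ)).obj (ModuleCat.of Λ A)).obj.map g.op).hom

lemma res_comp {W V U : C} (g : V ⟶ U) (k : W ⟶ V) (x : Sec (Λ := Λ) J A U) :
    res J (k ≫ g) x = res J k (res J g x) :=
  congr(($(((constantSheaf J (ModuleCat.{u} Λ)).obj (ModuleCat.of Λ A)).obj.map_comp g.op k.op)).hom x)

/-- The constant section attached to an element. -/
def η (W : C) : A →ₗ[Λ] Sec (Λ := Λ) J A W :=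
  ((toSheafify J ((Functor.const Cᵒᵖ).obj (ModuleCat.of Λ A))).app (op W)).hom

lemma res_η {W U : C} (g : W ⟶ U) (a : A) :
    res (Λ := Λ) J g (η J U a) = η J W a :=
  (congr(($((toSheafify J ((Functor.const Cᵒᵖ).obj (ModuleCat.of Λ A))).naturality g.op)).hom a)).symm

/-- The map on sections attached to a linear map. -/
def map (φ : A →ₗ[Λ] B) (W : C) : Sec (Λ := Λ) J A W →ₗ[Λ] Sec (Λ := Λ) J B W :=
  (((constantSheaf J (ModuleCat.{u} Λ)).map (ModuleCat.ofHom φ)).hom.app (op W)).hom

lemma map_η (φ : A →ₗ[Λ] B) (W : C) (a : A) : map J φ W (η J W a) = η J W (φ a) :=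
  (congr((($(toSheafify_naturality J
    ((Functor.const Cᵒᵖ).map (ModuleCat.ofHom φ)))).app (op W)).hom a)).symm

lemma res_map (φ : A →ₗ[Λ] B) {W U : C} (g : W ⟶ U) (x : Sec (Λ := Λ) J A U) :
    res J g (map J φ U x) = map J φ W (res J g x) :=
  (congr(($(((constantSheaf J (ModuleCat.{u} Λ)).map (ModuleCat.ofHom φ)).hom.naturality g.op)).hom x)).symm

lemma isSheafType :
    Presieve.IsSheaf J (((constantSheaf J (ModuleCat.{u} Λ)).obj (ModuleCat.of Λ A)).obj ⋙
      forget (ModuleCat.{u} Λ)) :=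
  (isSheaf_iff_isSheaf_of_type _ _).1
    ((Presheaf.isSheaf_iff_isSheaf_forget J _ (forget (ModuleCat.{u} Λ))).1
      ((constantSheaf J (ModuleCat.{u} Λ)).obj (ModuleCat.of Λ A)).property)

/-- Sections agreeing on a covering are equal. -/
lemma sec_ext {U : C} {x y : Sec (Λ := Λ) J A U} {S : Sieve U} (hS : S ∈ J U)
    (h : ∀ ⦃W : C⦄ (g : W ⟶ U), S g → res J g x = res J g y) : x = y :=
  ((isSheafType J (Λ := Λ) (A := A)).isSeparated S hS).ext fun _ g hg => h g hg

lemma eq_of_bot {W : C} (hW : (⊥ : Sieve W) ∈ J W) (x y : Sec (Λ := Λ) J A W) : x = y :=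
  sec_ext J hW fun _ _ hg => hg.elim

lemma η_inj {W : C} {a b : A} (h : η (Λ := Λ) J W a = η J W b) :
    a = b ∨ (⊥ : Sieve W) ∈ J W := by
  by_cases hab : a = b
  · exact Or.inl hab
  have : Presheaf.IsLocallyInjective J
      (toSheafify J ((Functor.const Cᵒᵖ).obj (ModuleCat.of Λ A))) :=
    ((J.W_iff_isLocallyBijective _).1 (J.W_toSheafify _)).1
  refine Or.inr (J.superset_covering ?_ (Presheaf.equalizerSieve_mem J
    (toSheafify J ((Functor.const Cᵒᵖ).obj (ModuleCat.of Λ A))) (X := op W) a b h))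
  exact fun Y g hg => (hab hg).elim

lemma exists_cover_η {U : C} {n : ℕ} (x : Fin n → Sec (Λ := Λ) J A U) :
    ∃ S ∈ J U, ∀ ⦃W : C⦄ (g : W ⟶ U), S g → ∃ a : Fin n → A, ∀ i, res J g (x i) = η J W (a i) := by
  have : Presheaf.IsLocallySurjective J
      (toSheafify J ((Functor.const Cᵒᵖ).obj (ModuleCat.of Λ A))) :=
    ((J.W_iff_isLocallyBijective _).1 (J.W_toSheafify _)).2
  let S := fun i => Presheaf.imageSieve (toSheafify J ((Functor.const Cᵒᵖ).obj (ModuleCat.of Λ A)))
    (U := U) (x i)
  refine ⟨Finset.univ.inf S, Finset.inf_induction (p := fun T => T ∈ J U) (J.top_mem U)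
      (fun a ha b hb => J.intersection_covering ha hb)
      (fun i _ => this.imageSieve_mem (U := U) (x i)), fun W g hg => ?_⟩
  have h : ∀ i, S i g := fun i => (Finset.inf_le (Finset.mem_univ i) : Finset.univ.inf S ≤ S i) _ hg
  choose a ha using h
  exact ⟨a, fun i => (ha i).symm⟩

/-- Applying a function of sets to finitely many sections of a constant sheaf. -/
theorem exists_lift {U : C} {n : ℕ} (x : Fin n → Sec (Λ := Λ) J A U) (σ : (Fin n → A) → B) :
    ∃ y : Sec (Λ := Λ) J B U, ∀ ⦃W : C⦄ (g : W ⟶ U) (a : Fin n → A),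
      (∀ i, res J g (x i) = η J W (a i)) → res J g y = η J W (σ a) := by
  obtain ⟨S, hS, hS'⟩ := exists_cover_η J x
  have key : ∀ ⦃W : C⦄ (a b : Fin n → A), (∀ i, η (Λ := Λ) J W (a i) = η J W (b i)) →
      η (Λ := Λ) J W (σ a) = η J W (σ b) := by
    intro W a b h
    by_cases hbot : (⊥ : Sieve W) ∈ J W
    · exact eq_of_bot J hbot _ _
    · rw [show a = b from funext fun i => (η_inj J (h i)).resolve_right hbot]
  choose a ha using hS'
  let fam : Presieve.FamilyOfElements (((constantSheaf J (ModuleCat.{u} Λ)).obj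
      (ModuleCat.of Λ B)).obj ⋙ forget (ModuleCat.{u} Λ)) S.arrows :=
    fun W g hg => η (Λ := Λ) J W (σ (a g hg))
  have hfam : fam.Compatible := by
    intro Y₁ Y₂ Z g₁ g₂ f₁ f₂ h₁ h₂ hcomm
    refine (res_η J g₁ _).trans (Eq.trans ?_ (res_η J g₂ _).symm)
    refine key _ _ fun i => ?_
    rw [← res_η J g₁, ← ha f₁ h₁ i, ← res_comp, hcomm, res_comp, ha f₂ h₂ i, res_η]
  refine ⟨(isSheafType J (Λ := Λ) (A := B) S hS).amalgamate fam hfam, fun W g b hb => ?_⟩
  refine sec_ext J (J.pullback_stable g hS) fun V k hk => ?_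
  rw [← res_comp, res_η]
  refine ((isSheafType J (Λ := Λ) (A := B) S hS).valid_glue hfam (k ≫ g) hk).trans ?_
  refine key _ _ fun i => ?_
  rw [← ha (k ≫ g) hk i, res_comp, hb i, res_η]

/-- The sum of lifts of coordinates recovers relations. -/
theorem exists_lifts {U : C} {n m : ℕ} (x : Fin n → Sec (Λ := Λ) J A U)
    (σ : (Fin n → A) → Fin m → B) :
    ∃ y : Fin m → Sec (Λ := Λ) J B U, ∀ ⦃W : C⦄ (g : W ⟶ U) (a : Fin n → A),
      (∀ i, res J g (x i) = η J W (a i)) → ∀ j, res J g (y j) = η J W (σ a j) := by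
  choose y hy using fun j => exists_lift J x fun a => σ a j
  exact ⟨y, fun W g a h j => hy j g a h⟩

/-- Over a coherent ring, sections of the constant sheaf on a flat module are flat. -/
theorem flat_sec (hΛ : ∀ I : Ideal Λ, I.FG → Module.FinitePresentation Λ I)
    (M : Type u) [AddCommGroup M] [Module Λ M] [Module.Flat Λ M] (U : C) :
    Module.Flat Λ (Sec (Λ := Λ) J M U) := by
  classical
  refine Module.Flat.of_forall_isTrivialRelation fun {l f x} hx => ?_
  let φ : (Fin l → Λ) →ₗ[Λ] Λ := Fintype.linearCombination Λ f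
  have hφ : φ.ker.FG := by
    have : Module.Finite Λ (φ.range) := Module.Finite.range φ
    have := hΛ φ.range (Module.Finite.iff_fg.1 inferInstance)
    have h := Module.FinitePresentation.fg_ker φ.rangeRestrict φ.surjective_rangeRestrict
    rwa [LinearMap.ker_rangeRestrict] at h
  obtain ⟨m, k, hk⟩ := Submodule.fg_iff_exists_fin_generating_family.1 hφ
  have hσ : ∀ v : Fin l → M, ∃ y : Fin m → M, ∑ i, f i • v i = 0 → ∀ i, v i = ∑ j, k j i • y j := by
    intro v
    by_cases hv : ∑ i, f i • v i = 0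
    · obtain ⟨p, a, z, hz, ha⟩ := Module.Flat.isTrivialRelation_of_sum_smul_eq_zero hv
      have hmem : ∀ q, (fun i => a i q) ∈ Submodule.span Λ (Set.range k) := fun q => by
        rw [hk, LinearMap.mem_ker]
        simpa [φ, Fintype.linearCombination_apply, mul_comm] using ha q
      choose c hc using fun q => Submodule.mem_span_range_iff_exists_fun Λ |>.1 (hmem q)
      refine ⟨fun j => ∑ q, c q j • z q, fun _ i => ?_⟩
      rw [hz i]
      simp only [Finset.smul_sum, smul_smul]
      rw [Finset.sum_comm]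
      refine Finset.sum_congr rfl fun q _ => ?_
      rw [← Finset.sum_smul]
      congr 1
      have := congrFun (hc q) i
      simp only [Finset.sum_apply, Pi.smul_apply, smul_eq_mul] at this
      rw [← this]
      exact Finset.sum_congr rfl fun j _ => mul_comm _ _
    · exact ⟨0, fun h => (hv h).elim⟩
  choose σ hσ using hσ
  obtain ⟨y, hy⟩ := exists_lifts J x σ
  refine ⟨m, fun i j => k j i, y, fun i => ?_, fun j => ?_⟩
  · obtain ⟨S, hS, hS'⟩ := exists_cover_η J x
    refine sec_ext J hS fun W g hg => ?_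
    obtain ⟨a, ha⟩ := hS' g hg
    have h0 : η (Λ := Λ) J W (∑ q, f q • a q) = η J W 0 := by
      rw [map_sum, map_zero, ← map_zero (res (Λ := Λ) (A := M) J g), ← hx, map_sum]
      refine Finset.sum_congr rfl fun q _ => ?_
      rw [map_smul, map_smul, ha q]
    rcases η_inj J h0 with h | h
    · rw [ha i, hσ a h i, map_sum, map_sum]
      refine Finset.sum_congr rfl fun j _ => ?_
      rw [map_smul, map_smul, hy g a ha j]
    · exact eq_of_bot J h _ _
  · have : k j ∈ φ.ker := hk ▸ Submodule.subset_span (Set.mem_range_self j)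
    simpa [φ, Fintype.linearCombination_apply, mul_comm] using LinearMap.mem_ker.1 this

/-- Sections of a constant sheaf commute with finitely presented tensor products. -/
theorem exists_tensor_equiv (M Q : Type u) [AddCommGroup M] [Module Λ M] [AddCommGroup Q]
    [Module Λ Q] [Module.FinitePresentation Λ Q] (U : C) :
    ∃ e : (Sec (Λ := Λ) J M U) ⊗[Λ] Q ≃ₗ[Λ] Sec (Λ := Λ) J (M ⊗[Λ] Q) U,
      ∀ s q, e (s ⊗ₜ q) = map J ((TensorProduct.mk Λ M Q).flip q) U s := by
  classical
  have hadd : ∀ (q q' : Q) (s : Sec (Λ := Λ) J M U),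
      map J ((TensorProduct.mk Λ M Q).flip (q + q')) U s =
        map J ((TensorProduct.mk Λ M Q).flip q) U s + map J ((TensorProduct.mk Λ M Q).flip q') U s := by
    intro q q' s
    obtain ⟨S, hS, hS'⟩ := exists_cover_η J (fun _ : Fin 1 => s)
    refine sec_ext J hS fun W g hg => ?_
    obtain ⟨a, ha⟩ := hS' g hg
    simp only [map_add, res_map, ha 0, map_η, LinearMap.flip_apply, TensorProduct.mk_apply,
      tmul_add, LinearMap.add_apply]
  have hsmul : ∀ (c : Λ) (q : Q) (s : Sec (Λ := Λ) J M U),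
      map J ((TensorProduct.mk Λ M Q).flip (c • q)) U s =
        c • map J ((TensorProduct.mk Λ M Q).flip q) U s := by
    intro c q s
    obtain ⟨S, hS, hS'⟩ := exists_cover_η J (fun _ : Fin 1 => s)
    refine sec_ext J hS fun W g hg => ?_
    obtain ⟨a, ha⟩ := hS' g hg
    simp only [map_smul, res_map, ha 0, map_η, LinearMap.flip_apply, TensorProduct.mk_apply,
      tmul_smul, LinearMap.smul_apply]
  let Φ : (Sec (Λ := Λ) J M U) ⊗[Λ] Q →ₗ[Λ] Sec (Λ := Λ) J (M ⊗[Λ] Q) U :=
    TensorProduct.lift <| LinearMap.mk₂ Λ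
      (fun s q => map J ((TensorProduct.mk Λ M Q).flip q) U s)
      (fun s s' q => map_add _ _ _) (fun c s q => map_smul _ _ _)
      (fun s q q' => hadd q q' s) (fun c s q => hsmul c q s)
  obtain ⟨n, q, hq⟩ := Module.Finite.exists_fin (R := Λ) (M := Q)
  have hdecomp : ∀ t : (Sec (Λ := Λ) J M U) ⊗[Λ] Q, ∃ s : Fin n → Sec (Λ := Λ) J M U, t = ∑ i, s i ⊗ₜ q i := by
    intro t
    induction t using TensorProduct.induction_on with
    | zero => exact ⟨0, by simp⟩
    | tmul s p =>
      obtain ⟨c, hc⟩ := Submodule.mem_span_range_iff_exists_fun Λ |>.1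
        (hq ▸ Submodule.mem_top : p ∈ Submodule.span Λ (Set.range q))
      exact ⟨fun i => c i • s, by simp [← hc, tmul_sum, TensorProduct.smul_tmul']⟩
    | add a b ha hb =>
      obtain ⟨s, rfl⟩ := ha
      obtain ⟨s', rfl⟩ := hb
      exact ⟨s + s', by simp [add_tmul, Finset.sum_add_distrib]⟩
  have hsurj0 : ∀ t : M ⊗[Λ] Q, ∃ s : Fin n → M, t = ∑ i, s i ⊗ₜ q i := by
    intro t
    induction t using TensorProduct.induction_on with
    | zero => exact ⟨0, by simp⟩
    | tmul s p =>
      obtain ⟨c, hc⟩ := Submodule.mem_span_range_iff_exists_fun Λ |>.1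
        (hq ▸ Submodule.mem_top : p ∈ Submodule.span Λ (Set.range q))
      exact ⟨fun i => c i • s, by simp [← hc, tmul_sum, TensorProduct.smul_tmul']⟩
    | add a b ha hb =>
      obtain ⟨s, rfl⟩ := ha
      obtain ⟨s', rfl⟩ := hb
      exact ⟨s + s', by simp [add_tmul, Finset.sum_add_distrib]⟩
  have hΦ : ∀ (s : Fin n → Sec (Λ := Λ) J M U) ⦃W : C⦄ (g : W ⟶ U) (a : Fin n → M),
      (∀ i, res J g (s i) = η J W (a i)) →
        res J g (Φ (∑ i, s i ⊗ₜ q i)) = η J W (∑ i, a i ⊗ₜ q i) := by
    intro s W g a ha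
    simp only [Φ, map_sum, TensorProduct.lift.tmul, LinearMap.mk₂_apply, res_map, ha, map_η,
      LinearMap.flip_apply, TensorProduct.mk_apply]
  refine ⟨LinearEquiv.ofBijective Φ ⟨?_, ?_⟩, fun s p => TensorProduct.lift.tmul s p⟩
  · refine (injective_iff_map_eq_zero Φ).2 fun t ht => ?_
    obtain ⟨s, rfl⟩ := hdecomp t
    let φ : (Fin n → Λ) →ₗ[Λ] Q := Fintype.linearCombination Λ q
    have hφs : Function.Surjective φ := by
      rw [← LinearMap.range_eq_top]
      exact (Fintype.range_linearCombination Λ q).trans hq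
    obtain ⟨m, k, hk⟩ := Submodule.fg_iff_exists_fin_generating_family.1
      (Module.FinitePresentation.fg_ker φ hφs)
    have hσ : ∀ v : Fin n → M, ∃ y : Fin m → M,
        ∑ i, v i ⊗ₜ[Λ] q i = 0 → ∀ i, v i = ∑ j, k j i • y j := by
      intro v
      by_cases hv : ∑ i, v i ⊗ₜ[Λ] q i = 0
      · obtain ⟨p, a, z, hz, ha⟩ := TensorProduct.vanishesTrivially_of_sum_tmul_eq_zero Λ
          (m := q) (n := v) hq (by
            have := congrArg (TensorProduct.comm Λ M Q) hv
            simpa [map_sum] using this)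
        have hmem : ∀ r, (fun i => a i r) ∈ Submodule.span Λ (Set.range k) := fun r => by
          rw [hk, LinearMap.mem_ker]
          simpa [φ, Fintype.linearCombination_apply] using ha r
        choose c hc using fun r => Submodule.mem_span_range_iff_exists_fun Λ |>.1 (hmem r)
        refine ⟨fun j => ∑ r, c r j • z r, fun _ i => ?_⟩
        rw [hz i]
        simp only [Finset.smul_sum, smul_smul]
        rw [Finset.sum_comm]
        refine Finset.sum_congr rfl fun r _ => ?_
        rw [← Finset.sum_smul]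
        congr 1
        have := congrFun (hc r) i
        simp only [Finset.sum_apply, Pi.smul_apply, smul_eq_mul] at this
        rw [← this]
        exact Finset.sum_congr rfl fun j _ => mul_comm _ _
      · exact ⟨0, fun h => (hv h).elim⟩
    choose σ hσ using hσ
    obtain ⟨y, hy⟩ := exists_lifts J s σ
    have hs : ∀ i, s i = ∑ j, k j i • y j := by
      intro i
      obtain ⟨S, hS, hS'⟩ := exists_cover_η J s
      refine sec_ext J hS fun W g hg => ?_
      obtain ⟨a, ha⟩ := hS' g hg
      have h0 : η (Λ := Λ) J W (∑ i, a i ⊗ₜ[Λ] q i) = η J W 0 := by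
        rw [← hΦ s g a ha, ht, map_zero, map_zero]
      rcases η_inj J h0 with h | h
      · rw [ha i, hσ a h i, map_sum, map_sum]
        refine Finset.sum_congr rfl fun j _ => ?_
        rw [map_smul, map_smul, hy g a ha j]
      · exact eq_of_bot J h _ _
    have hk0 : ∀ j, ∑ i, k j i • q i = 0 := fun j => by
      have : k j ∈ φ.ker := hk ▸ Submodule.subset_span (Set.mem_range_self j)
      simpa [φ, Fintype.linearCombination_apply] using LinearMap.mem_ker.1 this
    calc ∑ i, s i ⊗ₜ[Λ] q i = ∑ j, y j ⊗ₜ[Λ] (∑ i, k j i • q i) := by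
          simp only [hs, sum_tmul, tmul_sum, smul_tmul]
          exact Finset.sum_comm
      _ = 0 := by simp [hk0]
  · intro b
    choose τ hτ using hsurj0
    obtain ⟨s, hs⟩ := exists_lifts J (fun _ : Fin 1 => b) (fun a => τ (a 0))
    refine ⟨∑ i, s i ⊗ₜ q i, ?_⟩
    obtain ⟨S, hS, hS'⟩ := exists_cover_η J (fun _ : Fin 1 => b)
    refine sec_ext J hS fun W g hg => ?_
    obtain ⟨a, ha⟩ := hS' g hg
    rw [hΦ s g (τ (a 0)) (hs g a ha), ← hτ, ha 0]

end

end Groth.Agent.ConstSecLib
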